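import Mathlib.RingTheory.PowerSeries.WeierstrassPreparation
import Mathlib.RingTheory.PowerSeries.Substitution
import Mathlib.LinearAlgebra.Dimension.StrongRankCondition

/-!
# Power series rings over themselves through a substitution
-/

set_option autoImplicit false

universe u

open PowerSeries IsLocalRing

namespace Groth.Agent.FmlGrpFree

variable {O : Type u} [CommRing O] {f : PowerSeries O}

theorem subst_eq_const_add (hf : HasSubst f) (c : PowerSeries O) :
    subst f c = C (constantCoeff c) + f * subst f (PowerSeries.mk fun i => coeff (i + 1) c) := by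
  conv_lhs => rw [eq_X_mul_shift_add_const c, subst_add hf, subst_mul hf, subst_X hf, subst_C]
  rw [add_comm]
  rfl

theorem subst_eq_sum_add (hf : HasSubst f) (N : ℕ) : ∀ c : PowerSeries O,
    subst f c = ∑ j ∈ Finset.range N, C (coeff j c) * f ^ j +
      f ^ N * subst f (PowerSeries.mk fun i => coeff (i + N) c) := by
  induction N with
  | zero =>
    intro c
    simp only [Finset.range_zero, Finset.sum_empty, zero_add, pow_zero, one_mul, Nat.add_zero]
    exact congrArg (subst f) (PowerSeries.ext fun i => (coeff_mk i (fun i => coeff i c)).symm)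
  | succ N ih =>
    intro c
    rw [ih c, subst_eq_const_add hf (PowerSeries.mk fun i => coeff (i + N) c), Finset.sum_range_succ]
    have : (PowerSeries.mk fun i => coeff (i + 1) (PowerSeries.mk fun i => coeff (i + N) c)) =
        PowerSeries.mk fun i => coeff (i + (N + 1)) c := by
      ext i; simp [add_assoc, add_comm 1 N]
    rw [this]
    simp [← coeff_zero_eq_constantCoeff_apply]
    ring

theorem eq_zero_of_forall_dvd {a : PowerSeries O} (h : ∀ N, (X : PowerSeries O) ^ N ∣ a) : a = 0 := by
  ext n
  obtain ⟨b, rfl⟩ := h (n + 1)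
  simp [coeff_X_pow_mul']

variable [IsLocalRing O] [IsAdicComplete (maximalIdeal O) O]

theorem exists_free (hf0 : constantCoeff f = 0) (hsub : HasSubst f) (hf : f.map (residue O) ≠ 0) :
    ∃ (n : ℕ) (b : Fin n → PowerSeries O), ∀ g : PowerSeries O, ∃! c : Fin n → PowerSeries O,
      g = ∑ i, subst f (c i) * b i := by
  classical
  let h := (f.map (residue O)).order.toNat
  have hX : (X : PowerSeries O) ∣ f := X_dvd_iff.2 hf0
  choose q r hqr using fun g : PowerSeries O => exists_isWeierstrassDivision (f := g) hf
  have hdeg : ∀ g, (r g).degree < h := fun g => (hqr g).degree_lt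
  have hr : ∀ g, (r g : PowerSeries O) = ∑ i : Fin h, C ((r g).coeff i) * X ^ (i : ℕ) := fun g => by
    ext n
    simp only [Polynomial.coeff_coe, map_sum, coeff_C_mul, coeff_X_pow, mul_ite, mul_one, mul_zero]
    rcases lt_or_ge n h with hn | hn
    · rw [Finset.sum_eq_single (⟨n, hn⟩ : Fin h)] <;> simp +contextual [Fin.ext_iff, eq_comm]
    · rw [Polynomial.coeff_eq_zero_of_degree_lt ((hdeg g).trans_le (WithBot.coe_le_coe.2 hn)),
        Finset.sum_eq_zero fun i _ => if_neg (by omega)]
  refine ⟨h, fun i => X ^ (i : ℕ), fun g => ?_⟩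
  let it : ℕ → PowerSeries O := fun j => q^[j] g
  let c : Fin h → PowerSeries O := fun i => PowerSeries.mk fun j => (r (it j)).coeff i
  have hexp : ∀ N, g = (∑ j ∈ Finset.range N, f ^ j * (r (it j) : PowerSeries O)) + f ^ N * it N := fun N => by
    induction N with
    | zero => simp [it]
    | succ N ih =>
      have e := (hqr (it N)).eq_mul_add
      conv_lhs => rw [ih, e]
      rw [Finset.sum_range_succ, show it (N + 1) = q (it N) from Function.iterate_succ_apply' q N g]
      ring
  have hsum : g = ∑ i, subst f (c i) * X ^ (i : ℕ) := by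
    refine sub_eq_zero.1 (eq_zero_of_forall_dvd fun N => ?_)
    have : (∑ i, subst f (c i) * X ^ (i : ℕ)) =
        (∑ j ∈ Finset.range N, f ^ j * (r (it j) : PowerSeries O)) +
          f ^ N * ∑ i : Fin h, subst f (PowerSeries.mk fun l => coeff (l + N) (c i)) * X ^ (i : ℕ) := by
      simp only [subst_eq_sum_add hsub N (c _), add_mul, Finset.sum_mul, Finset.sum_add_distrib, Finset.mul_sum]
      rw [Finset.sum_comm]
      refine congrArg₂ (· + ·) (Finset.sum_congr rfl fun j _ => ?_)
        (Finset.sum_congr rfl fun i _ => mul_assoc _ _ _)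
      rw [hr (it j), Finset.mul_sum]
      refine Finset.sum_congr rfl fun i _ => ?_
      simp [c]
      ring
    rw [this]
    conv => arg 2; arg 1; rw [hexp N]
    rw [add_sub_add_left_eq_sub, ← mul_sub]
    exact (pow_dvd_pow_of_dvd hX N).trans (dvd_mul_right _ _)
  have hstep : ∀ d : Fin h → PowerSeries O, (∑ i, subst f (d i) * X ^ (i : ℕ)) = 0 →
      (∀ i, constantCoeff (d i) = 0) ∧
        (∑ i, subst f (PowerSeries.mk fun l => coeff (l + 1) (d i)) * X ^ (i : ℕ)) = 0 := fun d hd => by
    let p : Polynomial O := ∑ i : Fin h, Polynomial.monomial (i : ℕ) (constantCoeff (d i))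
    have hsplit : f * (∑ i, subst f (PowerSeries.mk fun l => coeff (l + 1) (d i)) * X ^ (i : ℕ)) +
        (p : PowerSeries O) = 0 := by
      have hp : (p : PowerSeries O) = ∑ i : Fin h, C (constantCoeff (d i)) * X ^ (i : ℕ) := by
        rw [show (p : PowerSeries O) = Polynomial.coeToPowerSeries.ringHom p from rfl, map_sum]
        refine Finset.sum_congr rfl fun i _ => ?_
        rw [Polynomial.coeToPowerSeries.ringHom_apply, Polynomial.coe_monomial, monomial_eq_C_mul_X_pow]
      rw [hp, Finset.mul_sum, ← Finset.sum_add_distrib]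
      refine Eq.trans (Finset.sum_congr rfl fun i _ => ?_) hd
      rw [subst_eq_const_add hsub (d i)]
      ring
    have hp' : p.degree < h := by
      refine (Polynomial.degree_sum_le _ _).trans_lt ((Finset.sup_lt_iff (WithBot.bot_lt_coe _)).2 fun i _ => ?_)
      exact (Polynomial.degree_monomial_le _ _).trans_lt (WithBot.coe_lt_coe.2 i.2)
    have h0 := IsWeierstrassDivision.eq_zero hf
      (q := ∑ i, subst f (PowerSeries.mk fun l => coeff (l + 1) (d i)) * X ^ (i : ℕ)) (r := p)
      ⟨hp', hsplit.symm⟩
    refine ⟨fun i => ?_, h0.1⟩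
    have := congrArg (fun P : Polynomial O => P.coeff (i : ℕ)) h0.2
    simpa [p, Polynomial.finsetSum_coeff, Polynomial.coeff_monomial, Fin.val_inj] using this
  have key : ∀ (j : ℕ) (d : Fin h → PowerSeries O), (∑ i, subst f (d i) * X ^ (i : ℕ)) = 0 →
      ∀ i, coeff j (d i) = 0 := by
    intro j
    induction j with
    | zero => intro d hd i; rw [coeff_zero_eq_constantCoeff_apply]; exact (hstep d hd).1 i
    | succ j ih => intro d hd i; simpa using ih _ (hstep d hd).2 i
  refine ⟨c, hsum, fun c' hc' => funext fun i => sub_eq_zero.1 (PowerSeries.ext fun j => ?_)⟩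
  rw [key j (fun i => c' i - c i) ?_ i, map_zero]
  simp only [subst_sub hsub, sub_mul, Finset.sum_sub_distrib]
  rw [← hc', ← hsum, sub_self]

theorem map_ne_zero_of_spanning (hsub : HasSubst f) {n : ℕ} (b : Fin n → PowerSeries O)
    (hb : ∀ g : PowerSeries O, ∃ c : Fin n → PowerSeries O, g = ∑ i, subst f (c i) * b i) :
    f.map (residue O) ≠ 0 := by
  intro hf
  let w : Fin n → PowerSeries (ResidueField O) := fun i => (b i).map (residue O)
  have hspan : ∀ g : PowerSeries O, g.map (residue O) ∈ Submodule.span (ResidueField O) (Set.range w) := fun g => by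
    obtain ⟨c, rfl⟩ := hb g
    rw [map_sum]
    refine Submodule.sum_mem _ fun i _ => ?_
    have : (subst f (c i) * b i).map (residue O) = residue O (constantCoeff (c i)) • w i := by
      have e : (subst f (c i) : PowerSeries O) = C (constantCoeff (c i)) +
          f * (subst f (PowerSeries.mk fun l => coeff (l + 1) (c i)) : PowerSeries O) := subst_eq_const_add hsub (c i)
      simp only [w]
      rw [e, RingHom.map_mul, RingHom.map_add, RingHom.map_mul,
        show MvPowerSeries.map (residue O) f = 0 from hf, zero_mul, add_zero]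
      show PowerSeries.map (residue O) (C _) * PowerSeries.map (residue O) (b i) = _
      rw [PowerSeries.map_C, smul_eq_C_mul]
    refine (congrArg (· ∈ _) this).mpr ?_
    exact Submodule.smul_mem _ _ (Submodule.subset_span ⟨i, rfl⟩)
  let v : Fin (n + 1) → PowerSeries (ResidueField O) := fun j => X ^ (j : ℕ)
  have hv : LinearIndependent (ResidueField O) v := by
    rw [Fintype.linearIndependent_iff]
    intro a ha j
    have := congrArg (coeff (j : ℕ)) ha
    simpa [v, coeff_X_pow, Fin.val_inj] using this
  haveI := (Set.finite_range w).fintype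
  have hle := linearIndependent_le_span' v hv (Set.range w) (Set.range_subset_iff.2 fun j => by
    have := hspan (X ^ (j : ℕ))
    rwa [map_pow, map_X] at this)
  have hcard : Fintype.card (Set.range w) ≤ n := (Fintype.card_range_le w).trans (Fintype.card_fin n).le
  rw [Cardinal.mk_fin, Nat.cast_le] at hle
  omega

end Groth.Agent.FmlGrpFree
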